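import Cfsg.Agent.Lib.Helper20.Co3Mult.ZForm
import Cfsg.Agent.Lib.Helper20.WeakL78
import Cfsg.Agent.Lib.Helper20.Co3Mult.CertH5
import Cfsg.Agent.Lib.Helper20.Co3Mult.CertM
import Cfsg.Agent.Lib.Helper20.Co3Mult.CertE
import Cfsg.Agent.Lib.Helper20.Co3Mult.CertH3

/-!
# S2045: the kernel of a stem extension of exponent `5` or `3` (helper20)

Generic in the group `G`: a family `γ` which satisfies the relators of the levels and generates a subgroup of
the right order and of index prime to `p`.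
-/

set_option autoImplicit false
set_option linter.unusedVariables false
set_option linter.style.haveILetI false

namespace Cfsg.Agent.Lib.Helper20.Co3Mult

open Cfsg Cfsg.H5.TCk Cfsg.Agent.Lib.Helper10.Weak

universe u

theorem isPGroup_of_exp {Γ : Type u} {G : Type u} [Group Γ] [Group G] (σ : Γ →* G) (p : ℕ)
    (hexp : ∀ z ∈ σ.ker, z ^ p = 1) : IsPGroup p σ.ker := by
  intro g
  refine ⟨1, ?_⟩
  apply Subtype.ext
  rw [pow_one]
  simpa using hexp g.1 g.2

/-- the kernel is trivial when the lifts generate a subgroup which is not larger than their images do -/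
theorem ker_trivial_of_bound {G : Type u} [Group G] {Γ : Type u} [Group Γ] [Finite Γ]
    (σ : Γ →* G) (hσ : IsStemExtension σ) (p : ℕ) [Fact p.Prime] (hk : IsPGroup p σ.ker)
    (t : ℕ) (γ : ℕ → G)
    (hidx : ¬ p ∣ (Subgroup.closure (Set.range fun i : Fin t => γ i.val)).index)
    (γh : ℕ → Γ) (hγh : ∀ i < t, σ (γh i) = γ i) (B : ℕ) (hB0 : 0 < B)
    (hB : Nat.card (Subgroup.closure (Set.range fun i : Fin t => γh i.val)) ≤ B)
    (hH : B ≤ Nat.card (Subgroup.closure (Set.range fun i : Fin t => γ i.val))) :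
    ∀ z ∈ σ.ker, z = 1 := by
  have h1 := card_closure_lifts σ hσ p hk t γ hidx γh hγh
  rw [h1] at hB
  have hHpos : 0 < Nat.card (Subgroup.closure (Set.range fun i : Fin t => γ i.val)) :=
    lt_of_lt_of_le hB0 hH
  have hle : Nat.card σ.ker ≤ 1 := by
    by_contra hcon
    push Not at hcon
    have : 2 * Nat.card (Subgroup.closure (Set.range fun i : Fin t => γ i.val)) ≤
        Nat.card σ.ker * Nat.card (Subgroup.closure (Set.range fun i : Fin t => γ i.val)) :=
      Nat.mul_le_mul_right _ hcon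
    omega
  have hpos : 0 < Nat.card σ.ker := Nat.card_pos
  have hone : Nat.card σ.ker = 1 := by omega
  have hbot : σ.ker = ⊥ := Subgroup.card_eq_one.mp hone
  intro z hz
  rw [hbot, Subgroup.mem_bot] at hz
  exact hz

theorem ev_powRel {Γ : Type u} [Group Γ] (γ : ℕ → Γ) (q : ℕ × ℕ) : ev γ (powRel q) = γ q.1 ^ q.2 := by
  unfold powRel
  rw [Helper1.ev_replicate, Helper1.gl_even]

theorem mem_exactOf_pows {pows : List (ℕ × ℕ)} {conjs : List (List ℕ × ℕ × ℕ × ℕ)}
    {extra : List (List ℕ)} {q : ℕ × ℕ} (hq : q ∈ pows) : powRel q ∈ exactOf pows conjs extra := by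
  unfold exactOf
  exact List.mem_append_left _ (List.mem_append_left _ (List.mem_map_of_mem hq))

theorem mem_exactOf_conjs {pows : List (ℕ × ℕ)} {conjs : List (List ℕ × ℕ × ℕ × ℕ)}
    {extra : List (List ℕ)} {q : List ℕ × ℕ × ℕ × ℕ} (hq : q ∈ conjs) :
    cjRel q ∈ exactOf pows conjs extra := by
  unfold exactOf
  exact List.mem_append_left _ (List.mem_append_right _ (List.mem_map_of_mem hq))

/-- the subgroup generated by the first generator -/
theorem zpowers_level {Γ : Type u} [Group Γ] (γh : ℕ → Γ) {n : ℕ} (hn : 0 < n) (h : γh 0 ^ n = 1) :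
    Finite (Subgroup.zpowers (γh 0)) ∧ Nat.card (Subgroup.zpowers (γh 0)) ≤ n ∧
      ∀ g ∈ ([[0]] : List (List ℕ)), ev γh g ∈ Subgroup.zpowers (γh 0) := by
  obtain ⟨h1, h2⟩ := card_zpowers_le' (γh 0) hn h
  refine ⟨h1, h2, ?_⟩
  intro g hg
  rw [List.mem_singleton] at hg
  rw [hg]
  have : ev γh [0] = γh 0 := ev_single' γh 0
  rw [this]
  exact Subgroup.mem_zpowers _

/-! ### the prime 5 -/

/-- the orders of the generators of `H₅` -/
def n5 (i : ℕ) : ℕ := ([24, 2, 24] : List ℕ).getD i 1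

theorem n5_coprime (i : ℕ) : (n5 i).Coprime 5 := by
  rcases lt_or_ge i 3 with h | h
  · interval_cases i <;> decide
  · have : n5 i = 1 := List.getD_eq_default _ _ (by simpa using h)
    rw [this]
    exact Nat.coprime_one_left 5

theorem part5 {G : Type u} [Group G] (γ : ℕ → G)
    (hrel : ∀ r ∈ exactOf DH5.pows DH5.conjs DH5.extra ++ DH5.weak, ev γ r = 1)
    (hone : ∀ i, 3 ≤ i → γ i = 1)
    (hcard : 6000 ≤ Nat.card (Subgroup.closure (Set.range fun i : Fin 3 => γ i.val)))
    (hidx : ¬ 5 ∣ (Subgroup.closure (Set.range fun i : Fin 3 => γ i.val)).index)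
    {Γ : Type u} [Group Γ] [Finite Γ] (σ : Γ →* G) (hσ : IsStemExtension σ)
    (hexp : ∀ z ∈ σ.ker, z ^ 5 = 1) : ∀ z ∈ σ.ker, z = 1 := by
  haveI : Fact (Nat.Prime 5) := ⟨by norm_num⟩
  have hk := isPGroup_of_exp σ 5 hexp
  have hc := hσ.2.1
  have hpw : ∀ q ∈ DH5.pows, γ q.1 ^ q.2 = 1 := by
    intro q hq
    rw [← ev_powRel]
    exact hrel _ (List.mem_append_left _ (mem_exactOf_pows hq))
  have hγ : ∀ i, γ i ^ n5 i = 1 := by
    intro i
    rcases lt_or_ge i 3 with h | h
    · interval_cases i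
      · exact hpw (0, 24) (by decide)
      · exact hpw (1, 2) (by decide)
      · exact hpw (2, 24) (by decide)
    · rw [hone i h, one_pow]
  obtain ⟨γh, hγh, hγo⟩ := lifts_exist' σ hσ.1 hk γ n5 n5_coprime hγ
  have hσγ : (fun k => σ (γh k)) = γ := funext hγh
  have hexact : ∀ r ∈ exactOf DH5.pows DH5.conjs DH5.extra, ev γh r = 1 :=
    exactOf_hold σ hc hk γh n5 n5_coprime hγo _ _ _ (by decide)
      (fun q hq => by rw [hσγ]; exact hrel _ (List.mem_append_left _ (mem_exactOf_conjs hq)))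
      (fun r hr => by simp [DH5.extra] at hr)
  have hex : ∀ r ∈ exactOf DH5.pows DH5.conjs DH5.extra,
      r.all (fun l => decide (l < 2 * 3)) = true ∧ ev γh r = 1 := by
    intro r hr
    refine ⟨?_, hexact r hr⟩
    revert r
    decide
  have hwk : ∀ r ∈ DH5.weak, r.all (fun l => decide (l < 2 * 3)) = true ∧ ev γh r ∈ σ.ker := by
    intro r hr
    refine ⟨?_, ?_⟩
    · revert r
      decide
    · rw [MonoidHom.mem_ker, Cfsg.H5.StemTC.map_ev, hσγ]
      exact hrel _ (List.mem_append_right _ hr)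
  obtain ⟨hzf, hzc, hzm⟩ := zpowers_level γh (by norm_num : 0 < 24) (hγo 0)
  haveI := hzf
  have hL := zlevel γh 3 5 _ DH5.weak σ.ker hc hexp hex hwk DH5.sgens (by decide)
    (Subgroup.zpowers (γh 0)) hzm 11 6 1685 250 DH5.defs DH5.log DH5.tc_ok
  refine ker_trivial_of_bound σ hσ 5 hk 3 γ hidx γh (fun i _ => hγh i) 6000 (by norm_num) ?_ hcard
  calc Nat.card (Subgroup.closure (Set.range fun i : Fin 3 => γh i.val))
      ≤ 250 * Nat.card (Subgroup.zpowers (γh 0)) := hL.2
    _ ≤ 250 * 24 := Nat.mul_le_mul_left _ hzc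
    _ = 6000 := by norm_num

/-! ### the prime 3 -/

/-- the orders of the generators of `H₃` -/
def n3 (i : ℕ) : ℕ := ([11, 5, 2, 11] : List ℕ).getD i 1

theorem n3_coprime (i : ℕ) : (n3 i).Coprime 3 := by
  rcases lt_or_ge i 4 with h | h
  · interval_cases i <;> decide
  · have : n3 i = 1 := List.getD_eq_default _ _ (by simpa using h)
    rw [this]
    exact Nat.coprime_one_left 3

theorem part3 {G : Type u} [Group G] (γ : ℕ → G)
    (hrelH : ∀ r ∈ exactOf DH3.pows DH3.conjs DH3.extra ++ DH3.weak, ev γ r = 1)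
    (hrelM : ∀ r ∈ exactOf DM.pows DM.conjs DM.extra ++ DM.weak, ev γ r = 1)
    (hrelE : ∀ r ∈ exactOf DE.pows DE.conjs DE.extra ++ DE.weak, ev (fun i => γ (DH3.eidx i)) r = 1)
    (hone : ∀ i, 4 ≤ i → γ i = 1)
    (hcardM : 7920 ≤ Nat.card (Subgroup.closure (Set.range fun i : Fin 2 => γ i.val)))
    (hcardE : 2673 ≤ Nat.card (Subgroup.closure (Set.range fun i : Fin 2 => γ (DH3.eidx i.val))))
    (hcard : 3849120 ≤ Nat.card (Subgroup.closure (Set.range fun i : Fin 4 => γ i.val)))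
    (hidx : ¬ 3 ∣ (Subgroup.closure (Set.range fun i : Fin 4 => γ i.val)).index)
    {Γ : Type u} [Group Γ] [Finite Γ] (σ : Γ →* G) (hσ : IsStemExtension σ)
    (hexp : ∀ z ∈ σ.ker, z ^ 3 = 1) : ∀ z ∈ σ.ker, z = 1 := by
  haveI : Fact (Nat.Prime 3) := ⟨by norm_num⟩
  have hk := isPGroup_of_exp σ 3 hexp
  have hc := hσ.2.1
  have hpw : ∀ q ∈ DH3.pows, γ q.1 ^ q.2 = 1 := by
    intro q hq
    rw [← ev_powRel]
    exact hrelH _ (List.mem_append_left _ (mem_exactOf_pows hq))
  have hγ : ∀ i, γ i ^ n3 i = 1 := by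
    intro i
    rcases lt_or_ge i 4 with h | h
    · interval_cases i
      · exact hpw (0, 11) (by decide)
      · exact hpw (1, 5) (by decide)
      · exact hpw (2, 2) (by decide)
      · exact hpw (3, 11) (by decide)
    · rw [hone i h, one_pow]
  obtain ⟨γh, hγh, hγo⟩ := lifts_exist' σ hσ.1 hk γ n3 n3_coprime hγ
  have hσγ : (fun k => σ (γh k)) = γ := funext hγh
  -- the level `M₁₁`
  have hexactM : ∀ r ∈ exactOf DM.pows DM.conjs DM.extra, ev γh r = 1 :=
    exactOf_hold σ hc hk γh n3 n3_coprime hγo _ _ _ (by decide)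
      (fun q hq => by rw [hσγ]; exact hrelM _ (List.mem_append_left _ (mem_exactOf_conjs hq)))
      (fun r hr => by simp [DM.extra] at hr)
  have hexM : ∀ r ∈ exactOf DM.pows DM.conjs DM.extra,
      r.all (fun l => decide (l < 2 * 2)) = true ∧ ev γh r = 1 := by
    intro r hr
    refine ⟨?_, hexactM r hr⟩
    revert r
    decide
  have hwkMl : ∀ r ∈ DM.weak, r.all (fun l => decide (l < 2 * 2)) = true := by decide
  have hwkM : ∀ r ∈ DM.weak, r.all (fun l => decide (l < 2 * 2)) = true ∧ ev γh r ∈ σ.ker := by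
    intro r hr
    refine ⟨hwkMl r hr, ?_⟩
    rw [MonoidHom.mem_ker, Cfsg.H5.StemTC.map_ev, hσγ]
    exact hrelM _ (List.mem_append_right _ hr)
  obtain ⟨hzf, hzc, hzm⟩ := zpowers_level γh (by norm_num : 0 < 11) (hγo 0)
  haveI := hzf
  have hLM := zlevel γh 2 3 _ DM.weak σ.ker hc hexp hexM hwkM DM.sgens (by decide)
    (Subgroup.zpowers (γh 0)) hzm 13 7 4883 720 DM.defs DM.log DM.tc_ok
  have hcM : Nat.card (Subgroup.closure (Set.range fun i : Fin 2 => γh i.val)) ≤ 7920 :=
    calc Nat.card (Subgroup.closure (Set.range fun i : Fin 2 => γh i.val))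
        ≤ 720 * Nat.card (Subgroup.zpowers (γh 0)) := hLM.2
      _ ≤ 720 * 11 := Nat.mul_le_mul_left _ hzc
      _ = 7920 := by norm_num
  have hMexact : ∀ w : List ℕ, w.all (fun l => decide (l < 2 * 2)) = true → ev γ w = 1 →
      ev γh w = 1 := by
    intro w hw h
    apply ev_eq_one_of_card_le σ γh 2 _ w hw
    · rw [hσγ]; exact h
    · have e : (fun i : Fin 2 => σ (γh i.val)) = fun i : Fin 2 => γ i.val :=
        funext fun i => hγh i.val
      rw [e]
      exact hcM.trans hcardM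
  -- the level `3⁵:11`
  have hγE : ∀ i, σ (γh (DH3.eidx i)) = γ (DH3.eidx i) := fun i => hγh _
  have hσγE : (fun k => σ (γh (DH3.eidx k))) = fun k => γ (DH3.eidx k) := funext hγE
  have hexactE : ∀ r ∈ exactOf DE.pows DE.conjs DE.extra, ev (fun i => γh (DH3.eidx i)) r = 1 :=
    exactOf_hold σ hc hk (fun i => γh (DH3.eidx i)) (fun i => n3 (DH3.eidx i))
      (fun i => n3_coprime _) (fun i => hγo _) _ _ _ (by decide)
      (fun q hq => by rw [hσγE]; exact hrelE _ (List.mem_append_left _ (mem_exactOf_conjs hq)))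
      (fun r hr => by simp [DE.extra] at hr)
  have hexE : ∀ r ∈ exactOf DE.pows DE.conjs DE.extra,
      r.all (fun l => decide (l < 2 * 2)) = true ∧ ev (fun i => γh (DH3.eidx i)) r = 1 := by
    intro r hr
    refine ⟨?_, hexactE r hr⟩
    revert r
    decide
  have hwkEl : ∀ r ∈ DE.weak, r.all (fun l => decide (l < 2 * 2)) = true := by decide
  have hwkE : ∀ r ∈ DE.weak, r.all (fun l => decide (l < 2 * 2)) = true ∧
      ev (fun i => γh (DH3.eidx i)) r ∈ σ.ker := by
    intro r hr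
    refine ⟨hwkEl r hr, ?_⟩
    rw [MonoidHom.mem_ker, Cfsg.H5.StemTC.map_ev, hσγE]
    exact hrelE _ (List.mem_append_right _ hr)
  have hE0 : (fun i => γh (DH3.eidx i)) 0 ^ 11 = 1 := hγo 0
  obtain ⟨hzfE, hzcE, hzmE⟩ := zpowers_level (fun i => γh (DH3.eidx i)) (by norm_num : 0 < 11) hE0
  haveI := hzfE
  have hLE := zlevel (fun i => γh (DH3.eidx i)) 2 3 _ DE.weak σ.ker hc hexp hexE hwkE DE.sgens
    (by decide) (Subgroup.zpowers ((fun i => γh (DH3.eidx i)) 0)) hzmE 13 7 7630 243 DE.defs DE.log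
    DE.tc_ok
  have hcE : Nat.card (Subgroup.closure (Set.range fun i : Fin 2 => γh (DH3.eidx i.val))) ≤ 2673 :=
    calc Nat.card (Subgroup.closure (Set.range fun i : Fin 2 => γh (DH3.eidx i.val)))
        ≤ 243 * Nat.card (Subgroup.zpowers ((fun i => γh (DH3.eidx i)) 0)) := hLE.2
      _ ≤ 243 * 11 := Nat.mul_le_mul_left _ hzcE
      _ = 2673 := by norm_num
  have hEexact : ∀ w : List ℕ, w.all (fun l => decide (l < 2 * 2)) = true →
      ev (fun i => γ (DH3.eidx i)) w = 1 → ev (fun i => γh (DH3.eidx i)) w = 1 := by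
    intro w hw h
    apply ev_eq_one_of_card_le σ (fun i => γh (DH3.eidx i)) 2 _ w hw
    · rw [hσγE]; exact h
    · have e : (fun i : Fin 2 => σ (γh (DH3.eidx i.val))) = fun i : Fin 2 => γ (DH3.eidx i.val) :=
        funext fun i => hγh _
      rw [e]
      exact hcE.trans hcardE
  -- the level `H₃`
  have hextra : ∀ r ∈ DH3.extra, ev γh r = 1 := by
    intro r hr
    unfold DH3.extra at hr
    rcases List.mem_append.mp hr with h | h
    · exact hMexact r (hwkMl r h) (hrelM _ (List.mem_append_right _ h))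
    · obtain ⟨r', hr', rfl⟩ := List.mem_map.mp h
      rw [ev_remap]
      exact hEexact r' (hwkEl r' hr') (hrelE _ (List.mem_append_right _ hr'))
  have hexactH : ∀ r ∈ exactOf DH3.pows DH3.conjs DH3.extra, ev γh r = 1 :=
    exactOf_hold σ hc hk γh n3 n3_coprime hγo _ _ _ (by decide)
      (fun q hq => by rw [hσγ]; exact hrelH _ (List.mem_append_left _ (mem_exactOf_conjs hq)))
      hextra
  have hexH : ∀ r ∈ exactOf DH3.pows DH3.conjs DH3.extra,
      r.all (fun l => decide (l < 2 * 4)) = true ∧ ev γh r = 1 := by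
    intro r hr
    refine ⟨?_, hexactH r hr⟩
    revert r
    decide
  have hwkH : ∀ r ∈ DH3.weak, r.all (fun l => decide (l < 2 * 4)) = true ∧ ev γh r ∈ σ.ker := by
    intro r hr
    refine ⟨?_, ?_⟩
    · revert r
      decide
    · rw [MonoidHom.mem_ker, Cfsg.H5.StemTC.map_ev, hσγ]
      exact hrelH _ (List.mem_append_right _ hr)
  haveI := hLM.1
  have hKm : ∀ g ∈ DH3.sgens, ev γh g ∈ Subgroup.closure (Set.range fun i : Fin 2 => γh i.val) := by
    intro g hg
    apply ev_mem_closure γh 2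
    revert g
    decide
  have hLH := zlevel γh 4 3 _ DH3.weak σ.ker hc hexp hexH hwkH DH3.sgens (by decide)
    (Subgroup.closure (Set.range fun i : Fin 2 => γh i.val)) hKm 13 8 6157 486 DH3.defs DH3.log
    DH3.tc_ok
  refine ker_trivial_of_bound σ hσ 3 hk 4 γ hidx γh (fun i _ => hγh i) 3849120 (by norm_num) ?_ hcard
  calc Nat.card (Subgroup.closure (Set.range fun i : Fin 4 => γh i.val))
      ≤ 486 * Nat.card (Subgroup.closure (Set.range fun i : Fin 2 => γh i.val)) := hLH.2
    _ ≤ 486 * 7920 := Nat.mul_le_mul_left _ hcM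
    _ = 3849120 := by norm_num

end Cfsg.Agent.Lib.Helper20.Co3Mult
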