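import Cfsg.Agent.Lib.Helper9.Co3P2G
import Cfsg.Agent.Lib.Helper5.Sp62C
import Cfsg.Agent.Lib.Helper11.Sp62UP
import Cfsg.Agent.Lib.Helper1.Sp62L

/-!
# S2045: the kernel of a stem extension of exponent `2` (helper20)

Generic in the group `G`: three elements which satisfy helper5's relators `Sp62.relsK` of `2·Sp₆(2)` and
generate a subgroup of order at least `2903040` and of odd index.
-/

set_option autoImplicit false
set_option linter.unusedVariables false
set_option linter.style.haveILetI false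

namespace Cfsg.Agent.Lib.Helper20.Co3Mult

open Cfsg Cfsg.H5.TCk Cfsg.Agent.Lib.Helper5.Sp62

universe u

theorem part2 {G : Type u} [Group G] (γ : ℕ → G)
    (hrel : ∀ r ∈ relsK, ev γ r = 1)
    (hcard : 2903040 ≤ Nat.card (Subgroup.closure (Set.range fun i : Fin 3 => γ i.val)))
    (hidx : ¬ 2 ∣ (Subgroup.closure (Set.range fun i : Fin 3 => γ i.val)).index)
    {Γ : Type u} [Group Γ] [Finite Γ] (σ : Γ →* G) (hσ : IsStemExtension σ)
    (hexp : ∀ z ∈ σ.ker, z ^ 2 = 1) : ∀ z ∈ σ.ker, z = 1 := by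
  classical
  haveI : Fact (Nat.Prime 2) := ⟨Nat.prime_two⟩
  have hk : IsPGroup 2 σ.ker := by
    intro g
    refine ⟨1, ?_⟩
    apply Subtype.ext
    rw [pow_one]
    simpa using hexp g.1 g.2
  have hc := hσ.2.1
  obtain ⟨e, he⟩ := IsPGroup.exists_card_eq hk
  have hcop : (7 : ℕ).Coprime (Nat.card σ.ker) := by
    rw [he]
    exact Nat.Coprime.pow_right e (by norm_num)
  have hg7 : ∀ i < 3, γ i ^ 7 = 1 := by
    intro i hi
    rw [← Helper11UP.ev_pow7]
    apply hrel
    unfold relsK relsH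
    interval_cases i <;> simp
  have hex : ∀ k : ℕ, ∃ y : Γ, σ y = γ k ∧ (k < 3 → y ^ 7 = 1) := by
    intro k
    by_cases hk3 : k < 3
    · obtain ⟨y, hy1, hy2⟩ := exists_lift_pow_eq_one σ hσ.1 hc hcop (γ k) (hg7 k hk3)
      exact ⟨y, hy1, fun _ => hy2⟩
    · obtain ⟨y, hy⟩ := hσ.1 (γ k)
      exact ⟨y, hy, fun h => absurd h hk3⟩
  choose γh hγσ hγ7 using hex
  have hσγ : (fun k => σ (γh k)) = γ := funext hγσ
  have hrelΓ : ∀ r ∈ relsK, ev γh r = 1 := by
    intro r hr
    rcases Helper11UP.mem_relsK hr with rfl | rfl | rfl | ⟨q, hq, rfl⟩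
    · rw [Helper11UP.ev_pow7]; exact hγ7 0 (by norm_num)
    · rw [Helper11UP.ev_pow7]; exact hγ7 1 (by norm_num)
    · rw [Helper11UP.ev_pow7]; exact hγ7 2 (by norm_num)
    · have hidx' : q.2.1 < 3 ∧ q.2.2.1 / 2 < 3 := by
        rcases hq with hq | hq
        · exact Helper11UP.conjH_idx q hq
        · exact Helper11UP.conjS_idx q hq
      have hqrel : crOf q ∈ relsK := hr
      unfold crOf at hqrel ⊢
      apply ev_cr_eq_one σ hc hcop γh _ _ _ _ (hγ7 _ hidx'.1) (hγ7 _ hidx'.2)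
      rw [hσγ]
      exact hrel _ hqrel
  have hl : ∀ r ∈ relsK, r.all (fun l => decide (l < 2 * 3)) = true := by decide
  have hB := card_ker_mul_card_le_of_bound σ hσ 2 hk 3 γ hidx γh (fun i _ => hγσ i) relsK hl hrelΓ
    2903040 (fun M _ γm h1 h2 => (card_le_of_relsK γm h1 h2).2)
  have hle : Nat.card σ.ker ≤ 1 := by
    by_contra hcon
    push Not at hcon
    have : 2 * Nat.card (Subgroup.closure (Set.range fun i : Fin 3 => γ i.val)) ≤
        Nat.card σ.ker * Nat.card (Subgroup.closure (Set.range fun i : Fin 3 => γ i.val)) :=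
      Nat.mul_le_mul_right _ hcon
    omega
  have hpos : 0 < Nat.card σ.ker := Nat.card_pos
  have hone : Nat.card σ.ker = 1 := by omega
  have hbot : σ.ker = ⊥ := Subgroup.card_eq_one.mp hone
  intro z hz
  rw [hbot, Subgroup.mem_bot] at hz
  exact hz

end Cfsg.Agent.Lib.Helper20.Co3Mult
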