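import Cfsg.Agent.Lib.Helper28.Co3A
import Cfsg.Agent.H5.TCkSound
import Cfsg.Agent.Lib.Helper20.Co3Mult.Gens

/-!
# S2045: the generators of the local subgroups as elements of helper28's `Kadz` (helper20)

A list `cs` of pairs of tables gives the family `gP cs i` of permutations of the 552 points; words in the
family act through the words of the tables, so that relators are checked by `wordId`; the members lie in `Kadz`
when their tables sift through helper28's chain.
-/

set_option autoImplicit false

namespace Cfsg.Agent.Lib.Helper20.Co3Mult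

open Cfsg.Agent.Lib.Helper28.BSGS Cfsg.Agent.Lib.Helper28.Co3AData
open Cfsg.Agent.Lib.Helper28.Co3A Cfsg.H5.TCk

attribute [local irreducible] checkChain codeSize gensOK siftB levelOK imgOK

/-- the `i`-th pair of tables -/
def pr (cs : List (ℕ × ℕ)) (i : ℕ) : ℕ × ℕ := cs.getD i (0, 0)

/-- the family of permutations -/
def gP (cs : List (ℕ × ℕ)) (i : ℕ) : P552 := permOf 552 10 (pr cs i).1 (pr cs i).2

/-- the table of a letter -/
def ltab (cs : List (ℕ × ℕ)) (l : ℕ) : ℕ := if l % 2 = 0 then (pr cs (l / 2)).1 else (pr cs (l / 2)).2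

theorem pr_mem (cs : List (ℕ × ℕ)) {i : ℕ} (hi : i < cs.length) : pr cs i ∈ cs := by
  unfold pr
  rw [List.getD_eq_getElem cs _ hi]
  exact List.getElem_mem hi

theorem pr_ok (cs : List (ℕ × ℕ)) (hok : gensOK 552 10 cs = true) {i : ℕ} (hi : i < cs.length) :
    pairOK 552 10 (pr cs i).1 (pr cs i).2 = true :=
  gensOK_spec 552 10 hok _ (pr_mem cs hi)

theorem gl_acts (cs : List (ℕ × ℕ)) (hok : gensOK 552 10 cs = true) (l : ℕ) (hl : l < 2 * cs.length) :
    ActsT (gl (gP cs) l) (ltab cs l) := by
  have hi : l / 2 < cs.length := by omega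
  have hp := pr_ok cs hok hi
  unfold gl ltab gP
  split_ifs with h
  · exact actsT_permOf hp
  · exact actsT_permOf_inv hp

theorem ev_acts (cs : List (ℕ × ℕ)) (hok : gensOK 552 10 cs = true) (w : List ℕ)
    (hw : w.all (fun l => decide (l < 2 * cs.length)) = true) :
    ActsByW 552 10 (ev (gP cs) w) (w.map (ltab cs)) := by
  induction w with
  | nil => exact actsByW_one 552 10
  | cons l w ih =>
    rw [List.all_cons, Bool.and_eq_true, decide_eq_true_eq] at hw
    exact actsByW_cons (gl_acts cs hok l hw.1) (ih hw.2)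

/-- the check of one relator -/
def relOK (cs : List (ℕ × ℕ)) (r : List ℕ) : Bool :=
  r.all (fun l => decide (l < 2 * cs.length)) && wordId 552 10 (r.map (ltab cs))

theorem ev_gP_eq_one (cs : List (ℕ × ℕ)) (hok : gensOK 552 10 cs = true) (r : List ℕ)
    (h : relOK cs r = true) : ev (gP cs) r = 1 := by
  unfold relOK at h
  rw [Bool.and_eq_true] at h
  exact eq_one_of_wordId 552 10 (ev_acts cs hok r h.1) h.2

/-- the tables sift through the chain of `Kadz` -/
def siftOK (cs : List (ℕ × ℕ)) : Bool := cs.all fun c => siftB 552 10 LEVELS [c.1]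

theorem mem_of_sift (t ti : ℕ) (hp : pairOK 552 10 t ti = true) (hs : siftB 552 10 LEVELS [t] = true) :
    permOf 552 10 t ti ∈ Kadz := by
  rw [← H0_eq]
  exact (perm_main 552 10 GENS LEVELS gens_ok chain_ok).2 [t] _ (actsT_permOf hp).word hs

theorem gP_mem (cs : List (ℕ × ℕ)) (hok : gensOK 552 10 cs = true) (hs : siftOK cs = true) (i : ℕ) :
    gP cs i ∈ Kadz := by
  by_cases hi : i < cs.length
  · unfold siftOK at hs
    rw [List.all_eq_true] at hs
    exact mem_of_sift _ _ (pr_ok cs hok hi) (hs _ (pr_mem cs hi))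
  · have h : pr cs i = (0, 0) := by
      unfold pr
      exact List.getD_eq_default _ _ (by omega)
    unfold gP
    rw [h]
    have : permOf 552 10 0 0 = 1 := by
      unfold permOf
      rw [dif_neg]
      decide +kernel
    rw [this]
    exact Kadz.one_mem

/-- the family inside `Kadz` -/
def gK (cs : List (ℕ × ℕ)) (hok : gensOK 552 10 cs = true) (hs : siftOK cs = true) (i : ℕ) : ↥Kadz :=
  ⟨gP cs i, gP_mem cs hok hs i⟩

theorem coe_gK (cs : List (ℕ × ℕ)) (hok : gensOK 552 10 cs = true) (hs : siftOK cs = true) (i : ℕ) :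
    ((gK cs hok hs i : ↥Kadz) : P552) = gP cs i := Subtype.coe_mk _ _

theorem coe_gl (cs : List (ℕ × ℕ)) (hok : gensOK 552 10 cs = true) (hs : siftOK cs = true) (l : ℕ) :
    ((gl (gK cs hok hs) l : ↥Kadz) : P552) = gl (gP cs) l := by
  unfold gl
  split_ifs
  · exact coe_gK cs hok hs _
  · rw [Subgroup.coe_inv, coe_gK]

theorem coe_ev (cs : List (ℕ × ℕ)) (hok : gensOK 552 10 cs = true) (hs : siftOK cs = true)
    (w : List ℕ) : ((ev (gK cs hok hs) w : ↥Kadz) : P552) = ev (gP cs) w := by
  induction w with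
  | nil => rfl
  | cons l w ih => simp only [ev, Subgroup.coe_mul, ih, coe_gl]

theorem ev_gK_eq_one (cs : List (ℕ × ℕ)) (hok : gensOK 552 10 cs = true) (hs : siftOK cs = true)
    (r : List ℕ) (h : relOK cs r = true) : ev (gK cs hok hs) r = 1 := by
  apply Subtype.ext
  rw [coe_ev, ev_gP_eq_one cs hok r h]
  exact (Subgroup.coe_one _).symm

theorem gK_ge (cs : List (ℕ × ℕ)) (hok : gensOK 552 10 cs = true) (hs : siftOK cs = true) (i : ℕ)
    (hi : cs.length ≤ i) : gK cs hok hs i = 1 := by
  apply Subtype.ext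
  rw [coe_gK, Subgroup.coe_one]
  have h : pr cs i = (0, 0) := by
    unfold pr
    exact List.getD_eq_default _ _ hi
  unfold gP
  rw [h]
  unfold permOf
  rw [dif_neg]
  decide +kernel

/-- the subgroup generated inside `Kadz` has the order of the generated permutation group -/
theorem card_closure_of (cs : List (ℕ × ℕ)) (t : ℕ) (ht : cs.length = t) (g : ℕ → ↥Kadz)
    (hg : ∀ i < t, ((g i : ↥Kadz) : P552) = gP cs i) :
    Nat.card (Subgroup.closure (Set.range fun i : Fin t => g i.val)) =
      Nat.card (genGroup 552 10 cs) := by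
  subst ht
  have hmap : (Subgroup.closure (Set.range fun i : Fin cs.length => g i.val)).map
      Kadz.subtype = genGroup 552 10 cs := by
    rw [MonoidHom.map_closure]
    unfold genGroup
    congr 1
    ext x
    constructor
    · rintro ⟨_, ⟨i, rfl⟩, rfl⟩
      show ((g i.val : ↥Kadz) : P552) ∈ semGens 552 10 cs
      rw [hg i.val i.isLt]
      exact mem_semGens 552 10 (pr_mem cs i.isLt)
    · intro hx
      have hx' : x ∈ semGens 552 10 cs := hx
      unfold semGens at hx'
      obtain ⟨q, hq, rfl⟩ := List.mem_map.mp hx'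
      obtain ⟨i, hi, rfl⟩ := List.getElem_of_mem hq
      refine ⟨g i, ⟨⟨i, hi⟩, rfl⟩, ?_⟩
      show ((g i : ↥Kadz) : P552) = _
      rw [hg i hi]
      unfold gP pr
      rw [List.getD_eq_getElem cs _ hi]
  rw [← hmap]
  exact (Nat.card_congr
    ((Subgroup.closure (Set.range fun i : Fin cs.length => g i.val)).equivMapOfInjective
      Kadz.subtype Kadz.subtype_injective).toEquiv)

/-- the index of a subgroup of `Kadz` of known order -/
theorem index_of_card (H : Subgroup ↥Kadz) (n m : ℕ) (hn : Nat.card H = n) (hm : n * m = 495766656000)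
    (hn0 : 0 < n) : H.index = m := by
  have h := H.card_mul_index
  rw [card_Kadz, hn, ← hm] at h
  exact Nat.eq_of_mul_eq_mul_left hn0 h

end Cfsg.Agent.Lib.Helper20.Co3Mult
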