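import Cfsg.Agent.Lib.Helper20.Co3Mult.Defs
import Cfsg.Agent.Lib.Helper20.Co3Mult.Assemble
import Cfsg.Agent.Lib.Helper20.Co3Mult.Assemble2
import Cfsg.Agent.Lib.Helper4.TC.Schur2

/-!
# S2045: the stem extensions of helper28's `Kadz ≅ Co₃` have a trivial kernel (helper20)

The orders of the five local subgroups are hypotheses here (they come from Schreier–Sims certificates).
-/

set_option autoImplicit false
set_option linter.unusedVariables false
set_option linter.style.haveILetI false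

namespace Cfsg.Agent.Lib.Helper20.Co3Mult

open Cfsg Cfsg.H5.TCk Cfsg.Agent.Lib.Helper28.BSGS Cfsg.Agent.Lib.Helper28.Co3A
open Cfsg.Agent.Lib.Helper5.Sp62

attribute [local irreducible] checkChain codeSize gensOK siftB levelOK imgOK

theorem ok5 : gensOK 552 10 GT5 = true := by decide +kernel
theorem ok3 : gensOK 552 10 GT3 = true := by decide +kernel
theorem ok2 : gensOK 552 10 GT2 = true := by decide +kernel
theorem sift5 : siftOK GT5 = true := by decide +kernel
theorem sift3 : siftOK GT3 = true := by decide +kernel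
theorem sift2 : siftOK GT2 = true := by decide +kernel

theorem rel5 : (exactOf DH5.pows DH5.conjs DH5.extra ++ DH5.weak).all (relOK GT5) = true := by
  decide +kernel

theorem relH3 : (exactOf DH3.pows DH3.conjs DH3.extra ++ DH3.weak).all (relOK GT3) = true := by
  decide +kernel

theorem relM : (exactOf DM.pows DM.conjs DM.extra ++ DM.weak).all (relOK GT3) = true := by
  decide +kernel

theorem relE : (exactOf DE.pows DE.conjs DE.extra ++ DE.weak).all
    (fun r => relOK GT3 (remap DH3.eidx r)) = true := by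
  decide +kernel

theorem rel2 : relsK.all (relOK GT2) = true := by decide +kernel

/-- the generators of `H₅` -/
def g5 : ℕ → ↥Kadz := gK GT5 ok5 sift5

/-- the generators of `H₃` -/
def g3 : ℕ → ↥Kadz := gK GT3 ok3 sift3

/-- the generators of `H₂` -/
def g2 : ℕ → ↥Kadz := gK GT2 ok2 sift2

theorem sq_not_dvd_card (r : ℕ) (hr : r.Prime) (h2 : r ≠ 2) (h3 : r ≠ 3) (h5 : r ≠ 5) :
    ¬ r ^ 2 ∣ 495766656000 := by
  intro hdvd
  have hc : Nat.Coprime r 279936000 := by
    rw [Nat.Prime.coprime_iff_not_dvd hr]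
    intro h
    have h' : r ∣ 2 ^ 10 * 3 ^ 7 * 5 ^ 3 := by
      have : (279936000 : ℕ) = 2 ^ 10 * 3 ^ 7 * 5 ^ 3 := by norm_num
      rw [← this]; exact h
    rcases (Nat.Prime.dvd_mul hr).mp h' with h | h
    · rcases (Nat.Prime.dvd_mul hr).mp h with h | h
      · exact h2 ((Nat.prime_dvd_prime_iff_eq hr Nat.prime_two).mp (hr.dvd_of_dvd_pow h))
      · exact h3 ((Nat.prime_dvd_prime_iff_eq hr Nat.prime_three).mp (hr.dvd_of_dvd_pow h))
    · exact h5 ((Nat.prime_dvd_prime_iff_eq hr Nat.prime_five).mp (hr.dvd_of_dvd_pow h))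
  have hc2 : Nat.Coprime (r ^ 2) 279936000 := Nat.Coprime.pow_left 2 hc
  have h4 : r ^ 2 ∣ 1771 := by
    apply Nat.Coprime.dvd_of_dvd_mul_right hc2
    have : (1771 * 279936000 : ℕ) = 495766656000 := by norm_num
    rw [this]; exact hdvd
  have h5' : r ^ 2 ≤ 1771 := Nat.le_of_dvd (by norm_num) h4
  have h6 : r ≤ 42 := by
    by_contra hcon
    push Not at hcon
    have : 43 ^ 2 ≤ r ^ 2 := Nat.pow_le_pow_left hcon 2
    omega
  have h7 := hr.two_le
  interval_cases r <;> omega

theorem gP_congr (cs cs' : List (ℕ × ℕ)) (i j : ℕ) (h : pr cs i = pr cs' j) : gP cs i = gP cs' j := by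
  unfold gP
  rw [h]

theorem coe_g2 (i : ℕ) : ((g2 i : ↥Kadz) : P552) = gP GT2 i := coe_gK GT2 ok2 sift2 i

theorem coe_g3 (i : ℕ) : ((g3 i : ↥Kadz) : P552) = gP GT3 i := coe_gK GT3 ok3 sift3 i

theorem coe_g5 (i : ℕ) : ((g5 i : ↥Kadz) : P552) = gP GT5 i := coe_gK GT5 ok5 sift5 i

theorem prM0 : pr GT3 0 = pr GTM 0 := rfl

theorem prM1 : pr GT3 1 = pr GTM 1 := rfl

theorem prE0 : pr GT3 (DH3.eidx 0) = pr GTE 0 := rfl

theorem prE1 : pr GT3 (DH3.eidx 1) = pr GTE 1 := rfl

theorem coe_g3M (i : ℕ) (hi : i < 2) : ((g3 i : ↥Kadz) : P552) = gP GTM i := by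
  rw [coe_g3]
  interval_cases i
  · exact gP_congr _ _ _ _ prM0
  · exact gP_congr _ _ _ _ prM1

theorem coe_g3E (i : ℕ) (hi : i < 2) : ((g3 (DH3.eidx i) : ↥Kadz) : P552) = gP GTE i := by
  rw [coe_g3]
  interval_cases i
  · exact gP_congr _ _ _ _ prE0
  · exact gP_congr _ _ _ _ prE1

theorem ker_bot
    (c5 : Nat.card (genGroup 552 10 GT5) = 6000)
    (cM : Nat.card (genGroup 552 10 GTM) = 7920)
    (cE : Nat.card (genGroup 552 10 GTE) = 2673)
    (c3 : Nat.card (genGroup 552 10 GT3) = 3849120)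
    (c2 : Nat.card (genGroup 552 10 GT2) = 2903040)
    (Γ : Type) [Group Γ] [Finite Γ] (σ : Γ →* ↥Kadz) (hσ : IsStemExtension σ) : σ.ker = ⊥ := by
  haveI := finite_K
  apply Cfsg.Agent.Helper4.TC.Schur.ker_eq_bot_of_prime_cases _ σ hσ
  intro r hr hf Γ' _ _ σ' hσ' hexp
  have hsq : r ^ 2 ∣ 495766656000 := by
    rw [← card_Kadz]
    exact (hr.pow_dvd_iff_le_factorization (by rw [card_Kadz]; norm_num)).mpr hf
  have hr235 : r = 2 ∨ r = 3 ∨ r = 5 := by
    by_contra hcon
    push Not at hcon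
    exact sq_not_dvd_card r hr hcon.1 hcon.2.1 hcon.2.2 hsq
  rcases hr235 with rfl | rfl | rfl
  · -- the prime 2
    have hcard : Nat.card (Subgroup.closure (Set.range fun i : Fin 3 => g2 i.val)) = 2903040 := by
      rw [card_closure_of GT2 3 rfl g2 (fun i _ => coe_g2 i), c2]
    refine part2 g2 ?_ (le_of_eq hcard.symm) ?_ σ' hσ' hexp
    · intro r hr
      exact ev_gK_eq_one GT2 ok2 sift2 r ((List.all_eq_true.mp rel2) r hr)
    · rw [index_of_card _ 2903040 170775 hcard (by norm_num) (by norm_num)]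
      norm_num
  · -- the prime 3
    have hcard : Nat.card (Subgroup.closure (Set.range fun i : Fin 4 => g3 i.val)) = 3849120 := by
      rw [card_closure_of GT3 4 rfl g3 (fun i _ => coe_g3 i), c3]
    have hcardM : Nat.card (Subgroup.closure (Set.range fun i : Fin 2 => g3 i.val)) = 7920 := by
      rw [card_closure_of GTM 2 rfl g3 coe_g3M, cM]
    have hcardE : Nat.card (Subgroup.closure (Set.range fun i : Fin 2 => g3 (DH3.eidx i.val))) =
        2673 := by
      rw [card_closure_of GTE 2 rfl (fun i => g3 (DH3.eidx i)) coe_g3E, cE]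
    refine part3 g3 ?_ ?_ ?_ ?_ (le_of_eq hcardM.symm) (le_of_eq hcardE.symm) (le_of_eq hcard.symm)
      ?_ σ' hσ' hexp
    · intro r hr
      exact ev_gK_eq_one GT3 ok3 sift3 r ((List.all_eq_true.mp relH3) r hr)
    · intro r hr
      exact ev_gK_eq_one GT3 ok3 sift3 r ((List.all_eq_true.mp relM) r hr)
    · intro r hr
      rw [← ev_remap]
      exact ev_gK_eq_one GT3 ok3 sift3 _ ((List.all_eq_true.mp relE) r hr)
    · intro i hi
      exact gK_ge GT3 ok3 sift3 i hi
    · rw [index_of_card _ 3849120 128800 hcard (by norm_num) (by norm_num)]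
      norm_num
  · -- the prime 5
    have hcard : Nat.card (Subgroup.closure (Set.range fun i : Fin 3 => g5 i.val)) = 6000 := by
      rw [card_closure_of GT5 3 rfl g5 (fun i _ => coe_g5 i), c5]
    refine part5 g5 ?_ ?_ (le_of_eq hcard.symm) ?_ σ' hσ' hexp
    · intro r hr
      exact ev_gK_eq_one GT5 ok5 sift5 r ((List.all_eq_true.mp rel5) r hr)
    · intro i hi
      exact gK_ge GT5 ok5 sift5 i hi
    · rw [index_of_card _ 6000 82627776 hcard (by norm_num) (by norm_num)]
      norm_num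

end Cfsg.Agent.Lib.Helper20.Co3Mult
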