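import Cfsg.Agent.H5.TCk2

/-!
# S2045: replaying a Todd–Coxeter log in slices (helper20)

The kernel keeps every intermediate term of one evaluation alive, so a long log is replayed in several
declarations: each slice starts from an explicit state (packed tables) and ends in an explicit state.
-/

set_option autoImplicit false

namespace Cfsg.Agent.Lib.Helper20.Co3Mult

open Cfsg.H5.TCk2

/-- the outcome of a run is the given state -/
def stEq (o : Option St) (s : St) : Bool :=
  match o with
  | none => false
  | some s' => s'.w == s.w && s'.tbl == s.tbl && s'.rep == s.rep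

theorem eq_of_stEq {o : Option St} {s : St} (h : stEq o s = true) : o = some s := by
  cases o with
  | none => simp [stEq] at h
  | some s' =>
    simp only [stEq, Bool.and_eq_true, beq_iff_eq] at h
    obtain ⟨⟨h1, h2⟩, h3⟩ := h
    cases s'
    cases s
    simp_all

theorem run_append (D F nl : ℕ) (defs : List (ℕ × ℕ)) (rels sgens : List (List ℕ)) (s : St)
    (l1 l2 : List Step) :
    run D F nl defs rels sgens s (l1 ++ l2) =
      (run D F nl defs rels sgens s l1).bind fun s' => run D F nl defs rels sgens s' l2 := by
  induction l1 generalizing s with
  | nil => rfl
  | cons st rest ih =>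
    simp only [List.cons_append, run]
    cases step D F nl defs rels sgens s st with
    | none => rfl
    | some s' => exact ih s'

/-- one slice -/
theorem run_chunk (D F nl : ℕ) (defs : List (ℕ × ℕ)) (rels sgens : List (List ℕ)) (s s' : St)
    (c rest : List ℕ) (nd : ℕ)
    (h : stEq (runS D F nl defs rels sgens nd (defs.drop nd) s c) s' = true) :
    run D F nl defs rels sgens s ((c ++ rest).map Step.ofNat) =
      run D F nl defs rels sgens s' (rest.map Step.ofNat) := by
  have h1 := eq_of_stEq h
  rw [runS_eq] at h1
  rw [List.map_append, run_append, h1]
  rfl

/-- the final test -/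
theorem checkS_of_run (W F nl ncos bound : ℕ) (defs : List (ℕ × ℕ)) (rels sgens : List (List ℕ))
    (log : List ℕ) (sK : St)
    (hrun : run W F nl defs rels sgens (St.init W nl) (log.map Step.ofNat) = some sK)
    (hfin : (finalOK F nl ncos sK && decide ((roots ncos sK).length ≤ bound)) = true) :
    checkS W F nl ncos bound defs rels sgens log = true := by
  unfold checkS
  have h := runS_eq W F nl defs rels sgens log 0 (St.init W nl)
  rw [List.drop_zero] at h
  rw [h, hrun]
  exact hfin

end Cfsg.Agent.Lib.Helper20.Co3Mult
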