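import Mathlib
import Cfsg.Prelude.Def_KGroupFacts
import Cfsg.Agent.H5.StemTC
import Cfsg.Agent.H5.StemLift
import Cfsg.Agent.Lib.Helper21.WeakL12
import Cfsg.Agent.Lib.Helper17.WeakL5
import Cfsg.Agent.Lib.Helper17.WeakL6
import Cfsg.Agent.Lib.Helper1.WeakL3
import Cfsg.Agent.Lib.Helper1.WeakL11
import Cfsg.Agent.Lib.Helper2.O73Mult.StLift
import Cfsg.Agent.H5.TCk2Main

/-!
# S2045: weak relators through central generators (helper20)

Lifts `γh i` of generators of a subgroup to a central extension with a kernel of exponent `p`.  A relator `ρ` of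
the subgroup which is not known to lift exactly is treated through the central element `z = ρ(γh)`: the extended
family `γh, z₁, …, z_k` satisfies `ρ_j z_j⁻¹`, `z_j ^ p` and `[z_j, γh i]`.  A coset enumeration for the extended
presentation bounds the subgroup generated by the `γh i`.
-/

set_option autoImplicit false
set_option linter.unusedVariables false

namespace Cfsg.Agent.Lib.Helper20.Co3Mult

open Cfsg Cfsg.H5.TCk Cfsg.Agent.Lib.Helper10.Weak

universe u v

/-- the relators of the `j`-th central generator, attached to the weak relator `r` -/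
def zblock (t p j : ℕ) (r : List ℕ) : List (List ℕ) :=
  (r ++ [2 * (t + j) + 1]) :: List.replicate p (2 * (t + j)) ::
    (List.range t).map fun i => [2 * (t + j), 2 * i, 2 * (t + j) + 1, 2 * i + 1]

/-- the relators of the central generators from the `j`-th on -/
def zweak (t p : ℕ) : ℕ → List (List ℕ) → List (List ℕ)
  | _, [] => []
  | j, r :: rs => zblock t p j r ++ zweak t p (j + 1) rs

/-- the extended presentation -/
def zrels (t p : ℕ) (exact weak : List (List ℕ)) : List (List ℕ) := exact ++ zweak t p 0 weak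

/-- the extended family: the central generators are the values of the weak relators -/
def zext {Γ : Type u} [Group Γ] (t : ℕ) (γh : ℕ → Γ) (weak : List (List ℕ)) (i : ℕ) : Γ :=
  if i < t then γh i else ev γh (weak.getD (i - t) [])

theorem mem_zweak (t p : ℕ) : ∀ (weak : List (List ℕ)) (j0 : ℕ) (r' : List ℕ),
    r' ∈ zweak t p j0 weak → ∃ j, j < weak.length ∧ r' ∈ zblock t p (j0 + j) (weak.getD j []) := by
  intro weak
  induction weak with
  | nil => intro j0 r' h; simp [zweak] at h
  | cons r rs ih =>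
    intro j0 r' h
    unfold zweak at h
    rcases List.mem_append.mp h with h | h
    · exact ⟨0, by simp, by simpa using h⟩
    · obtain ⟨j, hj, hm⟩ := ih (j0 + 1) r' h
      refine ⟨j + 1, by simpa using hj, ?_⟩
      have e : j0 + (j + 1) = j0 + 1 + j := by omega
      rw [e]
      simpa using hm

theorem getD_mem_or {α : Type} (l : List α) (j : ℕ) (hj : j < l.length) (d : α) : l.getD j d ∈ l := by
  rw [List.getD_eq_getElem l d hj]
  exact List.getElem_mem hj

section

variable {Γ : Type u} [Group Γ]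

theorem ev_zext_lt (t : ℕ) (γh : ℕ → Γ) (weak : List (List ℕ)) (w : List ℕ)
    (hw : w.all (fun l => decide (l < 2 * t)) = true) : ev (zext t γh weak) w = ev γh w := by
  apply Helper17.ev_congr_lt _ _ t _ w hw
  intro i hi
  unfold zext
  rw [if_pos hi]

theorem zext_ge (t : ℕ) (γh : ℕ → Γ) (weak : List (List ℕ)) (j : ℕ) :
    zext t γh weak (t + j) = ev γh (weak.getD j []) := by
  unfold zext
  rw [if_neg (by omega)]
  congr 2
  omega

theorem ev_pair (γ : ℕ → Γ) (i : ℕ) : ev γ [2 * i + 1] = (γ i)⁻¹ := by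
  simp only [ev, Helper1.gl_odd, mul_one]

theorem ev_quad (γ : ℕ → Γ) (a b : ℕ) :
    ev γ [2 * a, 2 * b, 2 * a + 1, 2 * b + 1] = γ a * γ b * (γ a)⁻¹ * (γ b)⁻¹ := by
  simp only [ev, Helper1.gl_odd, Helper1.gl_even, mul_one, mul_assoc]

/-- the extended presentation holds for the extended family -/
theorem zrels_hold (t p : ℕ) (γh : ℕ → Γ) (exact weak : List (List ℕ)) (Z : Subgroup Γ)
    (hZc : Z ≤ Subgroup.center Γ) (hZp : ∀ z ∈ Z, z ^ p = 1)
    (hex : ∀ r ∈ exact, r.all (fun l => decide (l < 2 * t)) = true ∧ ev γh r = 1)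
    (hwk : ∀ r ∈ weak, r.all (fun l => decide (l < 2 * t)) = true ∧ ev γh r ∈ Z) :
    ∀ r ∈ zrels t p exact weak, ev (zext t γh weak) r = 1 := by
  intro r hr
  unfold zrels at hr
  rcases List.mem_append.mp hr with h | h
  · rw [ev_zext_lt t γh weak r (hex r h).1]
    exact (hex r h).2
  · obtain ⟨j, hj, hm⟩ := mem_zweak t p weak 0 r h
    rw [zero_add] at hm
    have hρ := hwk _ (getD_mem_or weak j hj [])
    set ρ := weak.getD j [] with hρdef
    have hz : zext t γh weak (t + j) = ev γh ρ := zext_ge t γh weak j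
    unfold zblock at hm
    rcases List.mem_cons.mp hm with rfl | hm
    · rw [ev_append, ev_zext_lt t γh weak ρ hρ.1, ev_pair, hz, mul_inv_cancel]
    · rcases List.mem_cons.mp hm with rfl | hm
      · rw [Helper1.ev_replicate, Helper1.gl_even, hz]
        exact hZp _ hρ.2
      · obtain ⟨i, _, rfl⟩ := List.mem_map.mp hm
        rw [ev_quad, hz]
        have hc := Subgroup.mem_center_iff.mp (hZc hρ.2) (zext t γh weak i)
        rw [← hc, mul_inv_cancel_right, mul_inv_cancel]

theorem all_lt_mono {s t : ℕ} (hst : s ≤ t) {w : List ℕ}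
    (hw : w.all (fun l => decide (l < 2 * s)) = true) : w.all (fun l => decide (l < 2 * t)) = true := by
  rw [List.all_eq_true] at hw ⊢
  intro l hl
  have := hw l hl
  rw [decide_eq_true_eq] at this ⊢
  omega

/-- the letters of the extended presentation -/
theorem zrels_letters (t p : ℕ) (exact weak : List (List ℕ))
    (hex : ∀ r ∈ exact, r.all (fun l => decide (l < 2 * t)) = true)
    (hwk : ∀ r ∈ weak, r.all (fun l => decide (l < 2 * t)) = true) :
    ∀ r ∈ zrels t p exact weak, r.all (fun l => decide (l < 2 * (t + weak.length))) = true := by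
  intro r hr
  unfold zrels at hr
  rcases List.mem_append.mp hr with h | h
  · exact all_lt_mono (by omega) (hex r h)
  · obtain ⟨j, hj, hm⟩ := mem_zweak t p weak 0 r h
    rw [zero_add] at hm
    have hρ := hwk _ (getD_mem_or weak j hj [])
    unfold zblock at hm
    rcases List.mem_cons.mp hm with rfl | hm
    · rw [List.all_append, Bool.and_eq_true]
      refine ⟨all_lt_mono (by omega) hρ, ?_⟩
      simp only [List.all_cons, List.all_nil, Bool.and_true, decide_eq_true_eq]
      omega
    · rcases List.mem_cons.mp hm with rfl | hm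
      · rw [List.all_eq_true]
        intro l hl
        rw [List.eq_of_mem_replicate hl, decide_eq_true_eq]
        omega
      · obtain ⟨i, hi, rfl⟩ := List.mem_map.mp hm
        have hi' := List.mem_range.mp hi
        simp only [List.all_cons, List.all_nil, Bool.and_true, Bool.and_eq_true, decide_eq_true_eq]
        omega

/-- the extended family generates the same subgroup -/
theorem closure_zext (t : ℕ) (γh : ℕ → Γ) (weak : List (List ℕ)) (k : ℕ)
    (hwk : ∀ r ∈ weak, r.all (fun l => decide (l < 2 * t)) = true) :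
    Subgroup.closure (Set.range fun i : Fin (t + k) => zext t γh weak i.val) =
      Subgroup.closure (Set.range fun i : Fin t => γh i.val) := by
  apply le_antisymm
  · rw [Subgroup.closure_le]
    rintro _ ⟨i, rfl⟩
    show zext t γh weak i.val ∈ _
    unfold zext
    split_ifs with h
    · exact Subgroup.subset_closure ⟨⟨i.val, h⟩, rfl⟩
    · apply ev_mem_closure γh t
      by_cases hj : i.val - t < weak.length
      · exact hwk _ (getD_mem_or weak _ hj [])
      · rw [List.getD_eq_default _ _ (by omega)]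
        rfl
  · rw [Subgroup.closure_le]
    rintro _ ⟨i, rfl⟩
    have h : zext t γh weak i.val = γh i.val := by
      unfold zext
      rw [if_pos i.isLt]
    show γh i.val ∈ _
    rw [← h]
    exact Subgroup.subset_closure ⟨⟨i.val, by omega⟩, rfl⟩

/-- **one level**: a coset enumeration for the extended presentation bounds the subgroup generated by the `γh i` -/
theorem zlevel (γh : ℕ → Γ) (t p : ℕ) (exact weak : List (List ℕ)) (Z : Subgroup Γ)
    (hZc : Z ≤ Subgroup.center Γ) (hZp : ∀ z ∈ Z, z ^ p = 1)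
    (hex : ∀ r ∈ exact, r.all (fun l => decide (l < 2 * t)) = true ∧ ev γh r = 1)
    (hwk : ∀ r ∈ weak, r.all (fun l => decide (l < 2 * t)) = true ∧ ev γh r ∈ Z)
    (sgens : List (List ℕ)) (hsl : ∀ g ∈ sgens, g.all (fun l => decide (l < 2 * t)) = true)
    (K : Subgroup Γ) [Finite K] (hK : ∀ g ∈ sgens, ev γh g ∈ K)
    (W F ncos bound : ℕ) (defs : List (ℕ × ℕ)) (log : List ℕ)
    (hchk : Cfsg.H5.TCk2.checkS W F (2 * (t + weak.length)) ncos bound defs (zrels t p exact weak)
      sgens log = true) :
    Finite (Subgroup.closure (Set.range fun i : Fin t => γh i.val)) ∧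
      Nat.card (Subgroup.closure (Set.range fun i : Fin t => γh i.val)) ≤ bound * Nat.card K := by
  have h := Cfsg.Agent.Lib.Helper2.O73Mult.card_closure_le2 (zext t γh weak) (t + weak.length)
    (zrels t p exact weak)
    (zrels_letters t p exact weak (fun r hr => (hex r hr).1) (fun r hr => (hwk r hr).1))
    (zrels_hold t p γh exact weak Z hZc hZp hex hwk) sgens
    (fun g hg => all_lt_mono (by omega) (hsl g hg)) K
    (fun g hg => by rw [ev_zext_lt t γh weak g (hsl g hg)]; exact hK g hg)
    W F ncos bound defs log hchk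
  rw [closure_zext t γh weak weak.length (fun r hr => (hwk r hr).1)] at h
  exact h

end

/-- the lifts of generators of a subgroup of `p'`-index generate its full preimage -/
theorem card_closure_lifts {G : Type u} [Group G] {Γ : Type u} [Group Γ] [Finite Γ]
    (σ : Γ →* G) (hσ : IsStemExtension σ) (p : ℕ) [Fact p.Prime] (hk : IsPGroup p σ.ker)
    (t : ℕ) (γ : ℕ → G)
    (hidx : ¬ p ∣ (Subgroup.closure (Set.range fun i : Fin t => γ i.val)).index)
    (γh : ℕ → Γ) (hγh : ∀ i < t, σ (γh i) = γ i) :
    Nat.card (Subgroup.closure (Set.range fun i : Fin t => γh i.val)) =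
      Nat.card σ.ker * Nat.card (Subgroup.closure (Set.range fun i : Fin t => γ i.val)) := by
  classical
  have hsurj : Function.Surjective σ := hσ.1
  have hτ : IsStemExtension
      (σ.subgroupComap (Subgroup.closure (Set.range fun i : Fin t => γ i.val))) :=
    stem_restrict_p σ hσ hk _ hidx
  have hcardM : Nat.card ((Subgroup.closure (Set.range fun i : Fin t => γ i.val)).comap σ) =
      Nat.card σ.ker * Nat.card (Subgroup.closure (Set.range fun i : Fin t => γ i.val)) :=
    card_comap σ hsurj _
  rw [← hcardM]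
  generalize hHdef : Subgroup.closure (Set.range fun i : Fin t => γ i.val) = H at hτ hcardM ⊢
  have hγH : ∀ i < t, γ i ∈ H := by
    intro i hi
    rw [← hHdef]
    exact Subgroup.subset_closure ⟨⟨i, hi⟩, rfl⟩
  have hγhM : ∀ i < t, γh i ∈ H.comap σ := by
    intro i hi
    rw [Subgroup.mem_comap, hγh i hi]
    exact hγH i hi
  let γm : ℕ → H.comap σ := fun i => if h : i < t then ⟨γh i, hγhM i h⟩ else 1
  have hγm : ∀ i < t, ((γm i : H.comap σ) : Γ) = γh i := by
    intro i hi
    simp only [γm, dif_pos hi]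
  have hgenM : Subgroup.closure (Set.range fun i : Fin t => γm i.val) = ⊤ := by
    apply Cfsg.H5.StemLift.eq_top_of_map_eq_top (σ.subgroupComap H) hτ
    apply Subgroup.map_injective H.subtype_injective
    have h1 : (⊤ : Subgroup H).map H.subtype = H := by
      rw [← MonoidHom.range_eq_map, Subgroup.range_subtype]
    rw [h1, Subgroup.map_map, MonoidHom.map_closure]
    have himg : (⇑(H.subtype.comp (σ.subgroupComap H)) '' Set.range fun i : Fin t => γm i.val) =
        Set.range fun i : Fin t => γ i.val := by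
      ext x
      constructor
      · rintro ⟨_, ⟨i, rfl⟩, rfl⟩
        refine ⟨i, ?_⟩
        show γ i.val = σ ((γm i.val : H.comap σ) : Γ)
        rw [hγm i.val i.isLt, hγh i.val i.isLt]
      · rintro ⟨i, rfl⟩
        refine ⟨γm i.val, ⟨i, rfl⟩, ?_⟩
        show σ ((γm i.val : H.comap σ) : Γ) = γ i.val
        rw [hγm i.val i.isLt, hγh i.val i.isLt]
    rw [himg]
    exact hHdef
  -- transport along the inclusion
  have hmap : (Subgroup.closure (Set.range fun i : Fin t => γm i.val)).map (H.comap σ).subtype =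
      Subgroup.closure (Set.range fun i : Fin t => γh i.val) := by
    rw [MonoidHom.map_closure]
    congr 1
    ext x
    constructor
    · rintro ⟨_, ⟨i, rfl⟩, rfl⟩
      exact ⟨i, (hγm i.val i.isLt).symm⟩
    · rintro ⟨i, rfl⟩
      exact ⟨γm i.val, ⟨i, rfl⟩, hγm i.val i.isLt⟩
  rw [← hmap, hgenM, ← MonoidHom.range_eq_map, Subgroup.range_subtype]

/-- lifts of the same orders of a family of elements of orders prime to `p` -/
theorem lifts_exist' {Γ : Type u} {G : Type v} [Group Γ] [Finite Γ] [Group G] (σ : Γ →* G)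
    (hs : Function.Surjective σ) {p : ℕ} (hk : IsPGroup p σ.ker) (γ : ℕ → G) (n : ℕ → ℕ)
    (hn : ∀ i, (n i).Coprime p) (hγ : ∀ i, γ i ^ n i = 1) :
    ∃ γh : ℕ → Γ, (∀ i, σ (γh i) = γ i) ∧ ∀ i, γh i ^ n i = 1 := by
  choose f hf using fun i => exists_lift_pow_eq_one σ hs hk (γ i) (hn i) (hγ i)
  exact ⟨f, fun i => (hf i).1, fun i => (hf i).2⟩

theorem card_zpowers_le' {Γ : Type u} [Group Γ] (x : Γ) {n : ℕ} (hn : 0 < n) (hx : x ^ n = 1) :
    Finite (Subgroup.zpowers x) ∧ Nat.card (Subgroup.zpowers x) ≤ n := by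
  have ho : 0 < orderOf x := orderOf_pos_iff.mpr (isOfFinOrder_iff_pow_eq_one.mpr ⟨n, hn, hx⟩)
  have hfin : Finite (Subgroup.zpowers x) :=
    (Nat.card_pos_iff.mp (by rw [Nat.card_zpowers]; exact ho)).2
  refine ⟨hfin, ?_⟩
  rw [Nat.card_zpowers]
  exact Nat.le_of_dvd hn (orderOf_dvd_of_pow_eq_one hx)

theorem ev_single' {Γ : Type u} [Group Γ] (γ : ℕ → Γ) (i : ℕ) : ev γ [2 * i] = γ i := by
  simp only [ev, Helper1.gl_even, mul_one]

/-- words in re-indexed generators -/
def remap (f : ℕ → ℕ) (w : List ℕ) : List ℕ := w.map fun l => 2 * f (l / 2) + l % 2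

theorem gl_remap {Γ : Type u} [Group Γ] (γ : ℕ → Γ) (f : ℕ → ℕ) (l : ℕ) :
    gl γ (2 * f (l / 2) + l % 2) = gl (fun i => γ (f i)) l := by
  unfold gl
  have h1 : (2 * f (l / 2) + l % 2) % 2 = l % 2 := by omega
  have h2 : (2 * f (l / 2) + l % 2) / 2 = f (l / 2) := by omega
  rw [h1, h2]

theorem ev_remap {Γ : Type u} [Group Γ] (γ : ℕ → Γ) (f : ℕ → ℕ) (w : List ℕ) :
    ev γ (remap f w) = ev (fun i => γ (f i)) w := by
  induction w with
  | nil => rfl
  | cons l w ih =>
    show gl γ _ * ev γ (remap f w) = gl _ l * ev _ w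
    rw [ih, gl_remap]

/-! ### the shape of the exact relators -/

/-- the power relator `gᵢ ^ n` -/
def powRel (q : ℕ × ℕ) : List ℕ := List.replicate q.2 (2 * q.1)

/-- the conjugation relator `u gᵢ u⁻¹ = gⱼ ^ l` -/
def cjRel (q : List ℕ × ℕ × ℕ × ℕ) : List ℕ := conjRel q.1 q.2.1 q.2.2.1 q.2.2.2

/-- the exact relators of a level -/
def exactOf (pows : List (ℕ × ℕ)) (conjs : List (List ℕ × ℕ × ℕ × ℕ)) (extra : List (List ℕ)) :
    List (List ℕ) := pows.map powRel ++ conjs.map cjRel ++ extra

/-- the exact relators hold for lifts of the right orders -/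
theorem exactOf_hold {Γ : Type u} {G : Type v} [Group Γ] [Group G] (σ : Γ →* G)
    (hc : σ.ker ≤ Subgroup.center Γ) {p : ℕ} (hk : IsPGroup p σ.ker) (γh : ℕ → Γ) (n : ℕ → ℕ)
    (hn : ∀ i, (n i).Coprime p) (ho : ∀ i, γh i ^ n i = 1)
    (pows : List (ℕ × ℕ)) (conjs : List (List ℕ × ℕ × ℕ × ℕ)) (extra : List (List ℕ))
    (hpows : ∀ q ∈ pows, q.2 = n q.1)
    (hconj : ∀ q ∈ conjs, ev (fun k => σ (γh k)) (cjRel q) = 1)
    (hextra : ∀ r ∈ extra, ev γh r = 1) :
    ∀ r ∈ exactOf pows conjs extra, ev γh r = 1 := by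
  intro r hr
  unfold exactOf at hr
  rcases List.mem_append.mp hr with h | h
  · rcases List.mem_append.mp h with h | h
    · obtain ⟨q, hq, rfl⟩ := List.mem_map.mp h
      unfold powRel
      rw [Helper1.ev_replicate, Helper1.gl_even, hpows q hq]
      exact ho _
    · obtain ⟨q, hq, rfl⟩ := List.mem_map.mp h
      exact ev_conjRel_eq_one σ hc hk γh n q.1 q.2.1 q.2.2.1 q.2.2.2 (hn _) (hn _) (ho _) (ho _)
        (hconj q hq)
  · exact hextra r h

end Cfsg.Agent.Lib.Helper20.Co3Mult
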